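import Groth.Agent.Weighting.Split
import Groth.Agent.Weighting.Count
import Groth.Agent.GeomIrredStrata.Invariance
import Groth.Agent.FpqcDescent.Basic
import Groth.Prelude.Def_EGA43
import Mathlib.AlgebraicGeometry.Morphisms.Proper

/-!
# Semicontinuity of the number of geometric points of the fibres, and properness
-/

set_option autoImplicit false

universe u

open CategoryTheory CategoryTheory.Limits AlgebraicGeometry IsLocalRing MorphismProperty Topology

namespace Groth.Agent.GeomCount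

open Groth.Agent.Weighting

/-- A morphism covered by finitely many universally closed ones is universally closed. -/
lemma universallyClosed_of_cover {P V : Scheme.{u}} (π : P ⟶ V) {ι : Type*} [Finite ι]
    {W : ι → Scheme.{u}} (k : ∀ i, W i ⟶ P) (hk : ∀ i, UniversallyClosed (k i ≫ π))
    (hcov : ∀ p : P, ∃ i, p ∈ Set.range (k i)) : UniversallyClosed π := by
  refine ⟨fun {P' V'} a b π' hsq C hC ↦ ?_⟩
  let k' : ∀ i, pullback (k i) a ⟶ P' := fun i ↦ pullback.snd (k i) a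
  have hC' : π' '' C = ⋃ i, (k' i ≫ π') '' ((k' i) ⁻¹' C) := by
    ext v
    simp only [Set.mem_image, Set.mem_iUnion, Set.mem_preimage]
    constructor
    · rintro ⟨p, hp, rfl⟩
      obtain ⟨i, hi⟩ := hcov (a p)
      obtain ⟨w, hw⟩ : p ∈ Set.range (k' i) := by
        rw [Scheme.Pullback.range_snd]; exact hi
      exact ⟨i, w, by rw [hw]; exact hp, by rw [Scheme.Hom.comp_apply, hw]⟩
    · rintro ⟨i, w, hw, rfl⟩
      exact ⟨k' i w, hw, (Scheme.Hom.comp_apply _ _ _).symm⟩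
  change IsClosed (π' '' C)
  rw [hC']
  refine isClosed_iUnion_of_finite fun i ↦ ?_
  have hsq' : IsPullback (pullback.fst (k i) a) (k' i ≫ π') (k i ≫ π) b :=
    (IsPullback.of_hasPullback (k i) a).paste_vert hsq.flip
  have : UniversallyClosed (k' i ≫ π') :=
    MorphismProperty.of_isPullback (P := @UniversallyClosed) hsq' (hk i)
  exact (k' i ≫ π').isClosedMap _ (hC.preimage (k' i).continuous)

variable {X Y : Scheme.{u}}

/-- Near `y`, after an étale base change, the geometric fibres have at least as many points as the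
one at `y`; if equality holds then the base change is proper. -/
theorem exists_count_nhd (f : X ⟶ Y) [IsSeparated f] [LocallyQuasiFinite f]
    [LocallyOfFiniteType f] [QuasiCompact f] (y : Y)
    (h : ∀ x, f x = y → EGA43.IsUnivOpenAt f x) :
    ∃ (V : Scheme.{u}) (g : V ⟶ Y) (_ : Etale g) (O : V.Opens) (v₀ : V), v₀ ∈ O ∧ g v₀ = y ∧
      (∀ v ∈ O, MoreMor.nGeomConnComp f y ≤ MoreMor.nGeomConnComp f (g v)) ∧
      ∀ O' : V.Opens, O' ≤ O →
        (∀ v ∈ O', MoreMor.nGeomConnComp f (g v) ≤ MoreMor.nGeomConnComp f y) →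
        IsProper (pullback.snd f g ∣_ O') := by
  classical
  obtain ⟨K, _, _, yb, hyb, hn⟩ := card_geomFiber_eq f y
  rw [← nGeomConnComp_eq_card] at hn
  have : Finite (GPts f yb) := finite_gpts f yb (f.finite_preimage_singleton _)
  let := Fintype.ofFinite (GPts f yb)
  obtain ⟨V, g, _, v, hv, hs⟩ :=
    exists_common_nbhd f (fun i : GPts f yb ↦ i.1) yb (fun i ↦ i.2) Finset.univ
  choose W j q hp hpt using fun i ↦ hs i (Finset.mem_univ i)
  let π : pullback f g ⟶ V := pullback.snd f g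
  let k : ∀ i, W i ⟶ pullback f g := fun i ↦ pullback.lift (j i) (q i) (hp i).w
  have hko : ∀ i, IsOpenImmersion (k i) := fun i ↦ (hp i).isOpenImmersion_lift
  have hqf : ∀ i, IsFinite (q i) := fun i ↦ (hp i).isFinite
  have hkπ : ∀ i, k i ≫ π = q i := fun i ↦ pullback.lift_snd _ _ _
  have hkj : ∀ i, k i ≫ pullback.fst f g = j i := fun i ↦ pullback.lift_fst _ _ _
  have hkf : ∀ i, IsFinite (k i) := fun i ↦ by
    have : IsFinite (k i ≫ π) := (hkπ i).symm ▸ hqf i
    exact .of_comp (k i) π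
  have hclosed : ∀ i, IsClosed (Set.range (k i)) := fun i ↦ (k i).isClosedMap.isClosed_range
  have huniq : ∀ (i) (z : GPts π v), pt z.1 ∈ Set.range (k i) →
      z.1 ≫ pullback.fst f g = i.1 := by
    intro i z hz
    obtain ⟨w, hw, hu⟩ := hpt i
    have hr : Set.range z.1 ⊆ Set.range (k i) := by
      rintro _ ⟨p, rfl⟩
      rwa [Subsingleton.elim (α := PrimeSpectrum K) p (closedPoint K)]
    let z' : GPts (q i) v := ⟨IsOpenImmersion.lift (k i) z.1 hr, by
      rw [← hkπ i, IsOpenImmersion.lift_fac_assoc, z.2]⟩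
    have h1 : z'.1 = w.1 := congrArg Subtype.val (hu z')
    rw [← IsOpenImmersion.lift_fac (k i) z.1 hr, Category.assoc, hkj i]
    change z'.1 ≫ j i = _
    rw [h1, hw]
  let B : Set V := ⋃ p : {p : GPts f yb × GPts f yb // p.1 ≠ p.2},
    q p.1.1 '' ((k p.1.1) ⁻¹' Set.range (k p.1.2))
  have hB : IsClosed B := isClosed_iUnion_of_finite fun p ↦
    (q p.1.1).isClosedMap _ ((hclosed p.1.2).preimage (k p.1.1).continuous)
  have hvB : pt v ∉ B := by
    intro hvB
    obtain ⟨⟨⟨i, l⟩, hil⟩, u, hu, hqu⟩ := Set.mem_iUnion.mp hvB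
    obtain ⟨z, hz⟩ := exists_lift π v (k i u)
      ((congrArg (fun m ↦ m u) (hkπ i)).trans hqu)
    refine hil (Subtype.ext ?_)
    exact (huniq i z (hz ▸ Set.mem_range_self (f := (k i : _ → _)) u)).symm.trans
      (huniq l z (hz.symm ▸ hu))
  have hgv : g (pt v) = y := by rw [← pt_comp, hv, hyb]
  have hnhd : ∀ i, Set.range (q i) ∈ 𝓝 (pt v) := by
    intro i
    obtain ⟨w, hw, -⟩ := hpt i
    let x' : ↥(pullback f g) := k i (pt w.1)
    have hx' : π x' = pt v := by
      show π (k i (pt w.1)) = pt v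
      rw [← Scheme.Hom.comp_apply, hkπ i]
      exact w.map_pt
    have hfx : f (pullback.fst f g x') = y := by
      rw [← Scheme.Hom.comp_apply, pullback.condition, Scheme.Hom.comp_apply]
      exact (congrArg g hx').trans hgv
    have h1 := h _ hfx V g x' rfl (Set.range (k i))
      ((k i).isOpenEmbedding.isOpen_range.mem_nhds (Set.mem_range_self _))
    change π '' Set.range (k i) ∈ 𝓝 (π x') at h1
    rw [hx'] at h1
    refine Filter.mem_of_superset h1 ?_
    rintro _ ⟨_, ⟨u, rfl⟩, rfl⟩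
    exact ⟨u, (congrArg (fun m ↦ m u) (hkπ i)).symm⟩
  have hO : Bᶜ ∩ ⋂ i, Set.range (q i) ∈ 𝓝 (pt v) :=
    Filter.inter_mem (hB.isOpen_compl.mem_nhds hvB) (Filter.iInter_mem.mpr hnhd)
  obtain ⟨O, hOsub, hOo, hvO⟩ := mem_nhds_iff.mp hO
  have hcount : ∀ v' : V, MoreMor.nGeomConnComp f (g v') = MoreMor.nGeomConnComp π v' := fun v' ↦
    (congrArg Prod.snd
      (GeomIrredStrata.gc_baseChange (IsPullback.of_hasPullback f g) v')).symm
  have hN : ENat.card (GPts f yb) = MoreMor.nGeomConnComp f y := hn.symm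
  have key : ∀ v' ∈ O, ∃ (L : Type u) (_ : Field L) (_ : IsAlgClosed L) (y₁ : Spec (.of L) ⟶ V)
      (e : GPts f yb → GPts π y₁), pt y₁ = v' ∧ Function.Injective e ∧
      (∀ i, pt (e i).1 ∈ Set.range (k i)) ∧
      MoreMor.nGeomConnComp f (g v') = ENat.card (GPts π y₁) := by
    intro v' hv'
    obtain ⟨L, _, _, y₁, hy₁, hcard⟩ := card_geomFiber_eq π v'
    rw [← nGeomConnComp_eq_card] at hcard
    have hz : ∀ i, ∃ z : GPts (q i) y₁, True := by
      intro i
      obtain ⟨a, ha⟩ := Set.mem_iInter.mp (hOsub hv').2 i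
      obtain ⟨z, -⟩ := exists_lift (q i) y₁ a (ha.trans hy₁.symm)
      exact ⟨z, trivial⟩
    choose z hz using hz
    refine ⟨L, inferInstance, inferInstance, y₁,
      fun i ↦ ⟨(z i).1 ≫ k i, by rw [Category.assoc, hkπ i, (z i).2]⟩, hy₁, ?_,
      fun i ↦ ⟨pt (z i).1, rfl⟩, (hcount v').trans hcard⟩
    intro i l hil
    by_contra hne
    refine (hOsub hv').1 (Set.mem_iUnion.mpr ⟨⟨(i, l), hne⟩, pt (z i).1, ?_, ?_⟩)
    · exact ⟨pt (z l).1, (congrArg (fun m : GPts π y₁ ↦ pt m.1) hil).symm⟩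
    · exact (z i).map_pt.trans hy₁
  refine ⟨V, g, inferInstance, ⟨O, hOo⟩, pt v, hvO, hgv, fun v' hv' ↦ ?_, fun O' hO' hle ↦ ?_⟩
  · obtain ⟨L, _, _, y₁, e, -, he, -, hc⟩ := key v' hv'
    rw [hc, ← hN]
    exact ENat.card_le_card_of_injective he
  · have hcov : ∀ p : ↥(π ⁻¹ᵁ O'), ∃ i, (π ⁻¹ᵁ O').ι p ∈ Set.range (k i) := by
      intro p
      by_contra hno
      push Not at hno
      obtain ⟨L, _, _, y₁, e, hy₁, he, her, hc⟩ := key _ (hO' p.2)
      obtain ⟨z, hz⟩ := exists_lift π y₁ ((π ⁻¹ᵁ O').ι p) hy₁.symm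
      have hez : ∀ i, e i ≠ z := fun i hi ↦ hno i (hz ▸ hi ▸ her i)
      have hinj : Function.Injective (fun o : Option (GPts f yb) ↦ o.elim z e) := by
        rintro (_ | a) (_ | b) hab
        · rfl
        · exact absurd hab.symm (hez b)
        · exact absurd hab (hez a)
        · exact congrArg some (he hab)
      have h1 := ENat.card_le_card_of_injective hinj
      rw [← hc] at h1
      have h2 := h1.trans (hle _ p.2)
      rw [← hN, ENat.card_eq_coe_fintype_card, ENat.card_eq_coe_fintype_card,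
        Nat.cast_le, Fintype.card_option] at h2
      omega
    have hU : UniversallyClosed (π ∣_ O') := by
      refine universallyClosed_of_cover (π ∣_ O') (fun i ↦ k i ∣_ (π ⁻¹ᵁ O')) (fun i ↦ ?_) ?_
      · have h1 : UniversallyClosed (k i ≫ π) := by
          rw [hkπ i]; infer_instance
        rw [← morphismRestrict_comp]
        exact IsZariskiLocalAtTarget.restrict h1 O'
      · intro p
        obtain ⟨i, u, hu⟩ := hcov p
        have hu' : u ∈ k i ⁻¹ᵁ (π ⁻¹ᵁ O') := by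
          show k i u ∈ π ⁻¹ᵁ O'
          rw [hu]; exact p.2
        refine ⟨i, ⟨u, hu'⟩, ?_⟩
        apply (π ⁻¹ᵁ O').ι.isOpenEmbedding.injective
        exact ((Scheme.Hom.comp_apply _ _ _).symm.trans (congrArg (fun m ↦ m ⟨u, hu'⟩)
          (morphismRestrict_ι (k i) (π ⁻¹ᵁ O')))).trans hu
    exact {  }

variable (f : X ⟶ Y) [IsSeparated f] [LocallyQuasiFinite f] [LocallyOfFiniteType f]
  [QuasiCompact f]

/-- Lower semicontinuity of the number of geometric points. -/
theorem eventually_le (y : Y) (h : ∀ x, f x = y → EGA43.IsUnivOpenAt f x) :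
    ∀ᶠ z in 𝓝 y, MoreMor.nGeomConnComp f y ≤ MoreMor.nGeomConnComp f z := by
  obtain ⟨V, g, _, O, v₀, hv₀, rfl, hle, -⟩ := exists_count_nhd f y h
  refine Filter.mem_of_superset ((g.isOpenMap _ O.2).mem_nhds ⟨v₀, hv₀, rfl⟩) ?_
  rintro _ ⟨v, hv, rfl⟩
  exact hle v hv

/-- If the number of geometric points is locally constant, the morphism is proper nearby. -/
theorem exists_isProper_of_const (y : Y) (h : ∀ x, f x = y → EGA43.IsUnivOpenAt f x)
    (hc : ∃ W ∈ 𝓝 y, ∀ z ∈ W, MoreMor.nGeomConnComp f z = MoreMor.nGeomConnComp f y) :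
    ∃ U : Y.Opens, y ∈ U ∧ IsProper (f ∣_ U) := by
  obtain ⟨V, g, _, O, v₀, hv₀, hgv, -, hpr⟩ := exists_count_nhd f y h
  obtain ⟨W, hW, hconst⟩ := hc
  obtain ⟨Y₀, hY₀, hyY₀, hY₀W⟩ := exists_isAffineOpen_mem_and_subset (X := Y) (U := ⟨interior W,
    isOpen_interior⟩) (mem_interior_iff_mem_nhds.mpr hW)
  have hv₀' : v₀ ∈ O ⊓ g ⁻¹ᵁ Y₀ := ⟨hv₀, by show g v₀ ∈ Y₀; rw [hgv]; exact hyY₀⟩
  obtain ⟨O', hO', hv₀O', hO'le⟩ := exists_isAffineOpen_mem_and_subset (X := V) hv₀'
  have hprop : IsProper (pullback.snd f g ∣_ O') :=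
    hpr O' (fun v hv ↦ (hO'le hv).1) fun v hv ↦
      (hconst _ (interior_subset (hY₀W (hO'le hv).2))).le
  let U : Y.Opens := ⟨g '' (O' : Set V), g.isOpenMap _ O'.2⟩
  have hUY₀ : U ≤ Y₀ := by rintro _ ⟨v, hv, rfl⟩; exact (hO'le hv).2
  have hr : Set.range (O'.ι ≫ g) ⊆ Set.range U.ι := by
    rintro _ ⟨v, rfl⟩
    rw [Scheme.Opens.range_ι]
    exact ⟨v.1, v.2, rfl⟩
  let e : (O' : Scheme.{u}) ⟶ U := IsOpenImmersion.lift U.ι (O'.ι ≫ g) hr
  have he : e ≫ U.ι = O'.ι ≫ g := IsOpenImmersion.lift_fac _ _ _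
  have : IsAffine (O' : Scheme.{u}) := hO'
  have : IsAffine (Y₀ : Scheme.{u}) := hY₀
  have : IsSeparated (Y.homOfLE hUY₀) := inferInstance
  have hefl : Flat e := by
    have : Etale (e ≫ U.ι) := by rw [he]; infer_instance
    have : Etale e := MorphismProperty.of_postcomp (W := @Etale) (W' := @Etale) e U.ι
      inferInstance this
    infer_instance
  have heqc : QuasiCompact e := by
    have : QuasiCompact (e ≫ Y.homOfLE hUY₀) := quasiCompact_of_compactSpace _
    exact QuasiCompact.of_comp e (Y.homOfLE hUY₀)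
  have hes : Surjective e := ⟨fun u ↦ by
    obtain ⟨v, hv, hvu⟩ := u.2
    refine ⟨⟨v, hv⟩, U.ι.isOpenEmbedding.injective ?_⟩
    exact ((Scheme.Hom.comp_apply _ _ _).symm.trans (congrArg (fun m ↦ m ⟨v, hv⟩) he)).trans hvu⟩
  refine ⟨U, ⟨v₀, hv₀O', hgv⟩, ?_⟩
  have hsq : IsPullback (((pullback.snd f g) ⁻¹ᵁ O').ι ≫ pullback.fst f g)
      (pullback.snd f g ∣_ O') f (e ≫ U.ι) := by
    rw [he]
    exact (isPullback_morphismRestrict _ O').flip.paste_horiz (IsPullback.of_hasPullback f g)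
  let h' : ((pullback.snd f g) ⁻¹ᵁ O' : Scheme.{u}) ⟶ (f ⁻¹ᵁ U) :=
    (isPullback_morphismRestrict f U).flip.lift
      (((pullback.snd f g) ⁻¹ᵁ O').ι ≫ pullback.fst f g) (pullback.snd f g ∣_ O' ≫ e)
      (by rw [hsq.w, Category.assoc])
  have hsq' : IsPullback h' (pullback.snd f g ∣_ O') (f ∣_ U) e :=
    IsPullback.of_right (by simpa [h'] using hsq) (by simp [h'])
      (isPullback_morphismRestrict f U).flip
  exact MorphismProperty.of_isPullback_of_descendsAlong (P := @IsProper)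
    (Q := @Surjective ⊓ @Flat ⊓ @QuasiCompact) hsq'.flip ⟨⟨hes, hefl⟩, heqc⟩ hprop

end Groth.Agent.GeomCount
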