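import Groth.Agent.GeomCount.Field
import Groth.Agent.DVRDom.Scheme
import Groth.Agent.Hensel.HenselizationAscent
import Groth.Agent.Hensel.Henselization
import Mathlib.RingTheory.Valuation.ValuationSubring

/-!
# A DVR counting the geometric points at two points
-/

set_option autoImplicit false

universe u

open CategoryTheory CategoryTheory.Limits AlgebraicGeometry IsLocalRing MorphismProperty

namespace Groth.Agent.GeomCount

open Groth.Agent.Weighting

variable {X Y : Scheme.{u}} (f : X ⟶ Y) [LocallyQuasiFinite f] [LocallyOfFiniteType f]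
  [QuasiCompact f]

/-- A finite extension of the residue field over which all geometric points are rational. -/
theorem exists_splitting (y' : Y) :
    ∃ (L : Type u) (_ : Field L) (_ : Algebra (Y.residueField y') L)
      (_ : FiniteDimensional (Y.residueField y') L) (ι : Type u)
      (s : ι → (Spec (.of L) ⟶ X)), Function.Injective s ∧
      (∀ i, s i ≫ f = Spec.map (CommRingCat.ofHom (algebraMap (Y.residueField y') L)) ≫
        Y.fromSpecResidueField y') ∧
      ENat.card ι = MoreMor.nGeomConnComp f y' := by
  classical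
  obtain ⟨Ω, _, _, yb, hyb, hn⟩ := card_geomFiber_eq f y'
  rw [← nGeomConnComp_eq_card] at hn
  subst hyb
  have : Finite (GPts f yb) := finite_gpts f yb (f.finite_preimage_singleton _)
  let b : Y.residueField (pt yb) ⟶ .of Ω := Y.descResidueField (Scheme.stalkClosedPointTo yb)
  have hb : Spec.map b ≫ Y.fromSpecResidueField (pt yb) = yb :=
    Scheme.descResidueField_stalkClosedPointTo_fromSpecResidueField _ _ _
  let := b.hom.toAlgebra
  have key : ∀ z : GPts f yb, ∃ E : IntermediateField (Y.residueField (pt yb)) Ω,
      FiniteDimensional (Y.residueField (pt yb)) E ∧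
      ∀ E' : IntermediateField (Y.residueField (pt yb)) Ω, E ≤ E' →
        ∃ x : Spec (.of E') ⟶ X, x ≫ f = Spec.map (CommRingCat.ofHom
            (algebraMap (Y.residueField (pt yb)) E')) ≫ Y.fromSpecResidueField (pt yb) ∧
          Spec.map (CommRingCat.ofHom (algebraMap E' Ω)) ≫ x = z.1 := by
    intro z
    let σ : X.residueField (pt z.1) ⟶ .of Ω := X.descResidueField (Scheme.stalkClosedPointTo z.1)
    have hσ : Spec.map σ ≫ X.fromSpecResidueField (pt z.1) = z.1 :=
      Scheme.descResidueField_stalkClosedPointTo_fromSpecResidueField _ _ _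
    let c : Y.residueField (pt yb) ⟶ X.residueField (pt z.1) :=
      (Y.residueFieldCongr z.map_pt.symm).hom ≫ f.residueFieldMap (pt z.1)
    have hc' : Spec.map c ≫ Y.fromSpecResidueField (pt yb) =
        X.fromSpecResidueField (pt z.1) ≫ f := by
      simp only [c, Spec.map_comp, Category.assoc,
        Scheme.residueFieldCongr_fromSpecResidueField]
      exact f.SpecMap_residueFieldMap_fromSpecResidueField (pt z.1)
    have hc : c ≫ σ = b := by
      apply Spec.map_injective
      rw [← cancel_mono (Y.fromSpecResidueField (pt yb)), Spec.map_comp, Category.assoc, hc', hb,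
        ← Category.assoc, hσ, z.2]
    let _ := c.hom.toAlgebra
    have hfin : Module.Finite (Y.residueField (pt yb)) (X.residueField (pt z.1)) := by
      have h1 := residueField_finite f (pt z.1)
      have h2 : ((f.residueFieldMap (pt z.1)).hom).Finite := h1
      have h3 : ((Y.residueFieldCongr z.map_pt.symm).hom.hom).Finite :=
        RingHom.Finite.of_surjective _
          (ConcreteCategory.bijective_of_isIso (Y.residueFieldCongr z.map_pt.symm).hom).2
      exact h2.comp h3
    let σ' : X.residueField (pt z.1) →ₐ[Y.residueField (pt yb)] Ω :=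
      ⟨σ.hom, fun r ↦ ConcreteCategory.congr_hom hc r⟩
    refine ⟨σ'.fieldRange, Module.Finite.equiv (AlgEquiv.ofInjectiveField σ').toLinearEquiv,
      fun E' hE ↦ ?_⟩
    let σE : X.residueField (pt z.1) →ₐ[Y.residueField (pt yb)] E' :=
      (IntermediateField.inclusion hE).comp σ'.rangeRestrict
    refine ⟨Spec.map (CommRingCat.ofHom σE.toRingHom) ≫ X.fromSpecResidueField (pt z.1), ?_, ?_⟩
    · rw [Category.assoc, ← hc', ← Category.assoc, ← Spec.map_comp]
      congr 2
      exact CommRingCat.hom_ext σE.comp_algebraMap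
    · conv_rhs => rw [← hσ]
      rw [← Category.assoc, ← Spec.map_comp]
      congr 2
  choose E hE hx using key
  let L : IntermediateField (Y.residueField (pt yb)) Ω := ⨆ z, E z
  choose x hxf hxz using fun z ↦ hx z L (le_iSup E z)
  have : FiniteDimensional (Y.residueField (pt yb)) L :=
    IntermediateField.finiteDimensional_iSup_of_finite
  refine ⟨L, inferInstance, inferInstance, inferInstance, GPts f yb, x,
    fun z z' h ↦ Subtype.ext ?_, hxf, hn.symm⟩
  rw [← hxz z, ← hxz z', h]

set_option backward.isDefEq.respectTransparency.types false in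
/-- A DVR through a specialisation over which the fibres count the geometric points. -/
theorem exists_dvr_count [IsLocallyNoetherian Y] [IsSeparated f] (y y' : Y) (hne : y' ≠ y)
    (hgen : y' ⤳ y) :
    ∃ (A : Type u) (_ : CommRing A) (_ : IsDomain A) (_ : IsDiscreteValuationRing A)
      (g : Spec (CommRingCat.of A) ⟶ Y),
      g (closedPoint A) = y ∧ g (genericPoint (Spec (CommRingCat.of A))) = y' ∧
      MoreMor.nGeomConnComp f y =
        ENat.card ↥((pullback.snd f g).fiber (closedPoint A)) ∧
      MoreMor.nGeomConnComp f y' =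
        ENat.card ↥((pullback.snd f g).fiber (genericPoint (Spec (CommRingCat.of A)))) := by
  classical
  obtain ⟨L, _, _, _, ι, s, hsinj, hsf, hι⟩ := exists_splitting f y'
  let κL : Y.residueField y' ⟶ .of L := CommRingCat.ofHom (algebraMap (Y.residueField y') L)
  let φ : Y.presheaf.stalk y ⟶ .of L := Y.presheaf.stalkSpecializes hgen ≫ Y.residue y' ≫ κL
  have w : Spec.map φ ≫ Y.fromSpecStalk y = Spec.map κL ≫ Y.fromSpecResidueField y' := by
    simp only [φ, Spec.map_comp, Category.assoc,
      Scheme.SpecMap_stalkSpecializes_fromSpecStalk, Scheme.fromSpecResidueField]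
  let := φ.hom.toAlgebra
  obtain ⟨S0, hS0⟩ := (inferInstance : Module.Finite (Y.residueField y') L).fg_top
  have hgenL : Subfield.closure (Set.range (algebraMap (Y.presheaf.stalk y) L) ∪ S0) = ⊤ := by
    obtain ⟨_, ⟨U, hU, rfl⟩, hyU, -⟩ :=
      Y.isBasis_affineOpens.exists_subset_of_mem_open (Set.mem_univ y) isOpen_univ
    have hy'U : y' ∈ U := hgen.mem_open U.2 hyU
    let := Y.presheaf.algebra_section_stalk ⟨y', hy'U⟩
    have := hU.isLocalization_stalk ⟨y', hy'U⟩
    have hκ : ∀ c : Y.residueField y', κL.hom c ∈
        Subfield.closure (Set.range (algebraMap (Y.presheaf.stalk y) L) ∪ S0) := by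
      intro c
      obtain ⟨c, rfl⟩ := Y.residue_surjective y' c
      obtain ⟨⟨a, d⟩, had⟩ := IsLocalization.surj (hU.primeIdealOf ⟨y', hy'U⟩).asIdeal.primeCompl c
      let ψ : Y.presheaf.stalk y' →+* L := κL.hom.comp (Y.residue y').hom
      have key : ∀ a : Γ(Y, U), ψ (algebraMap Γ(Y, U) (Y.presheaf.stalk y') a) =
          φ.hom (Y.presheaf.germ U y hyU a) := fun a => by
        have := congrArg (fun q => q.hom a) (Y.presheaf.germ_stalkSpecializes (U := U) hyU hgen)
        simp only [CommRingCat.hom_comp, RingHom.coe_comp, Function.comp_apply] at this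
        change ψ (Y.presheaf.germ U y' hy'U a) = _
        rw [← this]
        rfl
      have hd : IsUnit (ψ (algebraMap Γ(Y, U) (Y.presheaf.stalk y') d)) :=
        (IsLocalization.map_units _ d).map ψ
      have hψ : ψ c = ψ (algebraMap Γ(Y, U) _ a) * (ψ (algebraMap Γ(Y, U) _ (d : Γ(Y, U))))⁻¹ := by
        rw [eq_mul_inv_iff_mul_eq₀ hd.ne_zero, ← map_mul, had]
      show ψ c ∈ _
      rw [hψ, key, key]
      exact mul_mem (Subfield.subset_closure (Or.inl ⟨_, rfl⟩))
        (inv_mem (Subfield.subset_closure (Or.inl ⟨_, rfl⟩)))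
    refine top_le_iff.mp fun z hztop ↦ ?_
    clear hztop
    have hz : z ∈ Submodule.span (Y.residueField y') (S0 : Set L) := by rw [hS0]; trivial
    induction hz using Submodule.span_induction with
    | mem a ha => exact Subfield.subset_closure (Or.inr ha)
    | zero => exact zero_mem _
    | add a b _ _ ha hb => exact add_mem ha hb
    | smul r a _ ha => rw [Algebra.smul_def]; exact mul_mem (hκ r) ha
  have hne' : ∃ a ∈ maximalIdeal (Y.presheaf.stalk y), algebraMap (Y.presheaf.stalk y) L a ≠ 0 := by
    by_contra hall
    push Not at hall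
    have : IsLocalHom φ.hom := ⟨fun a ha => by
      by_contra hu
      exact ha.ne_zero (hall a ((mem_maximalIdeal _).mpr hu))⟩
    have h1 := congrArg (fun m ↦ m (closedPoint L)) w
    simp only [Scheme.Hom.comp_apply] at h1
    rw [Spec_closedPoint, Scheme.fromSpecStalk_closedPoint, Scheme.fromSpecResidueField_apply] at h1
    exact hne h1.symm
  obtain ⟨R, hR, hAR, hmR⟩ := DVRDom.exists_dvr_dominating S0 hgenL hne'
  have : IsDiscreteValuationRing R := hR
  obtain ⟨S, _, _, _, _, _⟩ := Hensel.exists_isStrictHenselization R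
  obtain ⟨_, hS⟩ := (Hensel.strictHenselization_dvr_iff (R := R) (S := S)).mp ⟨inferInstance, hR⟩
  have : IsDiscreteValuationRing S := hS
  have := Hensel.strictHenselization_faithfullyFlat (R := R) (S := S)
  have hinj : Function.Injective (algebraMap R S) := FaithfulSMul.algebraMap_injective R S
  let K := FractionRing S
  let eL : L →+* K := IsFractionRing.lift (A := R) (K := L)
    (g := (algebraMap S K).comp (algebraMap R S))
    ((IsFractionRing.injective S K).comp hinj)
  let φR : Y.presheaf.stalk y →+* R :=
    (algebraMap (Y.presheaf.stalk y) L).codRestrict R.toSubring hAR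
  have : IsLocalHom φR := ⟨fun a ha ↦ by
    by_contra hu
    have h1 : R.valuation (φR a : L) < 1 := hmR a ((mem_maximalIdeal _).mpr hu)
    exact absurd h1 (not_lt.mpr ((R.valuation_eq_one_iff (φR a)).mp ha).ge)⟩
  let φ0 : Y.presheaf.stalk y ⟶ .of S := CommRingCat.ofHom ((algebraMap R S).comp φR)
  have : IsLocalHom φ0.hom := inferInstanceAs (IsLocalHom ((algebraMap R S).comp φR))
  let g : Spec (.of S) ⟶ Y := Spec.map φ0 ≫ Y.fromSpecStalk y
  let jK : Spec (.of K) ⟶ Spec (.of S) := Spec.map (CommRingCat.ofHom (algebraMap S K))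
  let jk : Spec (.of (ResidueField S)) ⟶ Spec (.of S) := Spec.map (CommRingCat.ofHom (residue S))
  have hjK : jK ≫ g = Spec.map (CommRingCat.ofHom eL) ≫ Spec.map κL ≫
      Y.fromSpecResidueField y' := by
    rw [← w, ← Category.assoc, ← Category.assoc]
    congr 1
    rw [← Spec.map_comp, ← Spec.map_comp]
    congr 1
    refine CommRingCat.hom_ext (RingHom.ext fun a ↦ ?_)
    exact (IsFractionRing.lift_algebraMap (A := R) (K := L)
      (g := (algebraMap S K).comp (algebraMap R S))
      ((IsFractionRing.injective S K).comp hinj) (φR a)).symm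
  have hgc : g (closedPoint S) = y := by
    show (Spec.map φ0 ≫ Y.fromSpecStalk y) (closedPoint S) = y
    rw [Scheme.Hom.comp_apply, Spec_closedPoint, Scheme.fromSpecStalk_closedPoint]
  have hjKp : jK (closedPoint K) = genericPoint (Spec (.of S)) := by
    rw [genericPoint_eq_bot_of_affine (CommRingCat.of S)]
    refine PrimeSpectrum.ext (Ideal.ext fun a ↦ ?_)
    show algebraMap S K a ∈ maximalIdeal K ↔ a ∈ (⊥ : Ideal S)
    rw [isField_iff_maximalIdeal_eq.mp (Field.toIsField K), Ideal.mem_bot, Ideal.mem_bot]
    exact map_eq_zero_iff _ (IsFractionRing.injective S K)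
  have : IsLocalHom (CommRingCat.ofHom (residue S)).hom :=
    inferInstanceAs (IsLocalHom (residue S))
  have hjkp : jk (closedPoint (ResidueField S)) = closedPoint S := Spec_closedPoint
  have hgg : g (genericPoint (Spec (.of S))) = y' := by
    rw [← hjKp, ← Scheme.Hom.comp_apply, hjK, Scheme.Hom.comp_apply, Scheme.Hom.comp_apply,
      Scheme.fromSpecResidueField_apply]
  have : IsPreimmersion jK := IsPreimmersion.of_isLocalization (nonZeroDivisors S)
  have : IsClosedImmersion jk :=
    IsClosedImmersion.spec_of_surjective _ residue_surjective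
  have hbc : ∀ {F : Type u} [Field F] (j : Spec (.of F) ⟶ Spec (.of S)) (p : ↥(Spec (.of F))),
      MoreMor.nGeomConnComp f (g (j p)) =
        MoreMor.nGeomConnComp (pullback.snd (pullback.snd f g) j) p := fun {F} _ j p ↦ by
    rw [← Scheme.Hom.comp_apply]
    exact (congrArg Prod.snd (GeomIrredStrata.gc_baseChange
      ((IsPullback.of_hasPullback (pullback.snd f g) j).paste_horiz
        (IsPullback.of_hasPullback f g)) p)).symm
  refine ⟨S, inferInstance, inferInstance, inferInstance, g, hgc, hgg, ?_, ?_⟩
  · rw [card_fiber_eq_card_pullback (pullback.snd f g) (closedPoint S) jk hjkp]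
    have : IsSepClosed (ResidueField S) :=
      (Hensel.IsStrictHenselization.isSepClosure (R := R) (S := S)).sep_closed
    rw [card_eq_of_isSepClosed (pullback.snd (pullback.snd f g) jk) (closedPoint _), ← hbc,
      hjkp, hgc]
  · rw [card_fiber_eq_card_pullback (pullback.snd f g) _ jK hjKp]
    let sP : ι → (Spec (.of K) ⟶ pullback (pullback.snd f g) jK) := fun i ↦
      pullback.lift (pullback.lift (Spec.map (CommRingCat.ofHom eL) ≫ s i) jK
        (by rw [Category.assoc, hsf i]; exact hjK.symm)) (𝟙 _) (by simp [pullback.lift_snd])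
    have hsP : ∀ i, sP i ≫ pullback.fst _ _ ≫ pullback.fst _ _ =
        Spec.map (CommRingCat.ofHom eL) ≫ s i := fun i ↦ by
      simp [sP, pullback.lift_fst, pullback.lift_fst_assoc]
    have hinj' : Function.Injective sP := fun i l h ↦ hsinj <| by
      have : Flat (Spec.map (CommRingCat.ofHom eL)) := by
        refine HasRingHomProperty.Spec_iff.mpr ?_
        letI := eL.toAlgebra
        exact (inferInstance : Module.Flat L K)
      have : Surjective (Spec.map (CommRingCat.ofHom eL)) :=
        ⟨fun p ↦ ⟨closedPoint K, Subsingleton.elim (α := PrimeSpectrum L) _ _⟩⟩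
      have := Flat.epi_of_flat_of_surjective (Spec.map (CommRingCat.ofHom eL))
      rw [← cancel_epi (Spec.map (CommRingCat.ofHom eL)), ← hsP i, h, hsP l]
    have hι' : ENat.card ι =
        MoreMor.nGeomConnComp (pullback.snd (pullback.snd f g) jK) (closedPoint K) := by
      rw [hι, ← hbc, hjKp, hgg]
    rw [card_eq_of_sections (pullback.snd (pullback.snd f g) jK) sP
      (fun i ↦ pullback.lift_snd _ _ _) hinj' (closedPoint K) hι', ← hbc, hjKp, hgg]

end Groth.Agent.GeomCount
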