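import Groth.Agent.GeomCount.Basic

/-!
# Counting points of locally quasi-finite schemes over a field
-/

set_option autoImplicit false

universe u

open CategoryTheory CategoryTheory.Limits AlgebraicGeometry MorphismProperty IsLocalRing

namespace Groth.Agent.GeomCount

open Groth.Agent.Weighting

variable {K : Type u} [Field K] {P : Scheme.{u}} (π : P ⟶ Spec (.of K))

lemma subsingleton_SpecField : Subsingleton ↥(Spec (CommRingCat.of K)) :=
  inferInstanceAs (Subsingleton (PrimeSpectrum K))

/-- The points are at most the geometric points. -/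
theorem card_le_nGeomConnComp [LocallyQuasiFinite π] [LocallyOfFiniteType π]
    (v : ↥(Spec (CommRingCat.of K))) :
    ENat.card P ≤ MoreMor.nGeomConnComp π v := by
  obtain ⟨Ω, _, _, yb, hyb, hn⟩ := card_geomFiber_eq π v
  rw [nGeomConnComp_eq_card, hn]
  have : Subsingleton ↥(Spec (CommRingCat.of K)) := subsingleton_SpecField
  have h : ∀ u : P, ∃ z : GPts π yb, pt z.1 = u := fun u ↦
    exists_lift π yb u (Subsingleton.elim _ _)
  choose z hz using h
  exact ENat.card_le_card_of_injective (f := z) fun a b hab ↦ by rw [← hz a, ← hz b, hab]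

set_option backward.isDefEq.respectTransparency.types false in
set_option backward.defeqAttrib.useBackward true in
/-- Sections through the same point agree. -/
lemma section_ext (x₁ x₂ : Spec (.of K) ⟶ P) (h₁ : x₁ ≫ π = 𝟙 _) (h₂ : x₂ ≫ π = 𝟙 _)
    (hp : x₁ (closedPoint K) = x₂ (closedPoint K)) : x₁ = x₂ := by
  have hsurj : Function.Surjective (π.residueFieldMap (x₁ (closedPoint K))).hom := by
    have : IsIso (x₁ ≫ π) := by rw [h₁]; infer_instance
    have hb : Function.Bijective ((x₁ ≫ π).residueFieldMap (closedPoint K)).hom :=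
      ConcreteCategory.bijective_of_isIso _
    rw [Scheme.residueFieldMap_comp] at hb
    intro a
    obtain ⟨b, hb'⟩ := hb.2 ((x₁.residueFieldMap (closedPoint K)).hom a)
    exact ⟨b, RingHom.injective (x₁.residueFieldMap (closedPoint K)).hom hb'⟩
  obtain ⟨e, he⟩ := Scheme.SpecToEquivOfField_eq_iff.mp
    congr((Scheme.SpecToEquivOfField K (Spec (.of K))) $(h₁.trans h₂.symm))
  apply (P.SpecToEquivOfField K).injective
  dsimp at e he
  simp only [Scheme.descResidueField_stalkClosedPointTo_comp] at e he
  rw [← π.residueFieldMap_congr'_assoc hp, CommRingCat.hom_ext_iff] at he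
  rw [Scheme.SpecToEquivOfField_eq_iff]
  refine ⟨hp, CommRingCat.hom_ext (RingHom.ext fun a ↦ ?_)⟩
  obtain ⟨b, rfl⟩ := hsurj a
  exact RingHom.congr_fun he b

/-- If there are as many sections as geometric points, the points are counted by them. -/
theorem card_eq_of_sections [LocallyQuasiFinite π] [LocallyOfFiniteType π] {ι : Type u}
    (s : ι → (Spec (.of K) ⟶ P)) (hs : ∀ i, s i ≫ π = 𝟙 _) (hinj : Function.Injective s)
    (v : ↥(Spec (CommRingCat.of K))) (hcard : ENat.card ι = MoreMor.nGeomConnComp π v) :
    ENat.card P = MoreMor.nGeomConnComp π v := by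
  refine le_antisymm (card_le_nGeomConnComp π v) (hcard.symm.le.trans ?_)
  exact ENat.card_le_card_of_injective (f := fun i ↦ s i (closedPoint K))
    fun i l h ↦ hinj (section_ext π _ _ (hs i) (hs l) h)

/-- Over a separably closed field the points are the geometric points. -/
theorem card_eq_of_isSepClosed [IsSepClosed K] [LocallyQuasiFinite π] [LocallyOfFiniteType π]
    (v : ↥(Spec (CommRingCat.of K))) :
    ENat.card P = MoreMor.nGeomConnComp π v := by
  obtain ⟨Ω, _, _, yb, hyb, hn⟩ := card_geomFiber_eq π v
  rw [nGeomConnComp_eq_card, hn]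
  have : Subsingleton ↥(Spec (CommRingCat.of K)) := subsingleton_SpecField
  have hpt : ∀ u, π u = pt yb := fun u ↦ Subsingleton.elim _ _
  refine (ENat.card_congr (Equiv.ofBijective (fun z : GPts π yb ↦ pt z.1) ⟨?_, fun u ↦ ?_⟩)).symm
  · intro z z' h
    have hone : Nat.card {x : GPts π yb // pt x.1 = pt z.1} = 1 := by
      rw [natCard_lifts π yb (pt z.1) (hpt _)]
      let _ := (π.residueFieldMap (pt z.1)).hom.toAlgebra
      have := residueField_finite π (pt z.1)
      have : IsSepClosed ((Spec (.of K)).residueField (π (pt z.1))) := by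
        let p : PrimeSpectrum K := π (pt z.1)
        have hp : p.asIdeal = ⊥ := p.asIdeal.eq_bot_of_prime
        exact isSepClosed_of_ringEquiv
          ((p.asIdeal.algEquivResidueFieldOfField).toRingEquiv.trans
            (Scheme.Spec.residueFieldIso (.of K) p).symm.commRingCatIsoToRingEquiv)
      exact IsPurelyInseparable.finSepDegree_eq_one _ _
    exact congr(Subtype.val $((Nat.card_eq_one_iff_unique.mp hone).1.elim ⟨z, rfl⟩ ⟨z', h.symm⟩))
  · obtain ⟨z, hz⟩ := exists_lift π yb u (hpt u)
    exact ⟨z, hz⟩

/-- The number of points of a fibre is that of the pullback along a preimmersion at that point. -/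
theorem card_fiber_eq_card_pullback {X T : Scheme.{u}} (f : X ⟶ T) (p : T)
    (j : Spec (.of K) ⟶ T) [IsPreimmersion j] (hj : j (closedPoint K) = p) :
    ENat.card ↥(f.fiber p) = ENat.card ↥(pullback f j) := by
  have : Subsingleton ↥(Spec (CommRingCat.of K)) := subsingleton_SpecField
  have hr : Set.range (pullback.fst f j) = f ⁻¹' {p} := by
    rw [Scheme.Pullback.range_fst]
    congr 1
    exact Set.eq_singleton_iff_unique_mem.mpr
      ⟨⟨_, hj⟩, fun q ⟨w, hw⟩ ↦ by rw [← hw, Subsingleton.elim w (closedPoint K), hj]⟩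
  rw [ENat.card_congr (f.fiberHomeo p).toEquiv,
    ENat.card_congr (Equiv.ofInjective _ (pullback.fst f j).isEmbedding.injective), hr]

end Groth.Agent.GeomCount
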