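import Groth.Agent.GeomCount.Basic
import Groth.Agent.FormalFun.Stein
import Groth.Agent.FormalFun.GeomFibres

/-!
# Geometric connected components and Stein factorisation
-/

set_option autoImplicit false

universe u

open CategoryTheory CategoryTheory.Limits AlgebraicGeometry MorphismProperty Topology

namespace Groth.Agent.GeomCount

open Groth.Agent.Weighting

/-- A surjective closed map with connected fibres onto a discrete space identifies the connected
components with the points. -/
lemma card_connectedComponents {α β : Type*} [TopologicalSpace α] [TopologicalSpace β]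
    [DiscreteTopology β] (π : α → β) (hc : Continuous π)
    (hconn : ∀ b, _root_.IsConnected (π ⁻¹' {b})) :
    ENat.card (_root_.ConnectedComponents α) = ENat.card β := by
  refine ENat.card_congr (Equiv.ofBijective hc.connectedComponentsLift ⟨?_, fun b ↦ ?_⟩)
  · intro a b hab
    obtain ⟨a, rfl⟩ := ConnectedComponents.surjective_coe a
    obtain ⟨b, rfl⟩ := ConnectedComponents.surjective_coe b
    rw [Continuous.connectedComponentsLift_apply_coe, Continuous.connectedComponentsLift_apply_coe] at hab
    exact ConnectedComponents.coe_eq_coe'.mpr
      ((hconn (π b)).isPreconnected.subset_connectedComponent rfl hab)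
  · obtain ⟨a, ha⟩ := (hconn b).nonempty
    exact ⟨(a : _root_.ConnectedComponents α), by
      rw [Continuous.connectedComponentsLift_apply_coe]; exact ha⟩

variable {X Y : Scheme.{u}} (f : X ⟶ Y) [IsProper f] [IsLocallyNoetherian Y]

/-- The geometric connected components are counted by the finite part of the Stein factorisation. -/
theorem nGeomConnComp_fromNormalization (y : Y) :
    MoreMor.nGeomConnComp f y = MoreMor.nGeomConnComp f.fromNormalization y := by
  have := SteinLead.isFinite_fromNormalization f
  have : IsLocallyNoetherian f.normalization :=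
    LocallyOfFiniteType.isLocallyNoetherian f.fromNormalization
  have := FormalFun.isProper_toNormalization f
  have : GeometricallyConnected f.toNormalization :=
    FormalFun.geometricallyConnected_of_isIso_app f.toNormalization
      (FormalFun.isIso_app_toNormalization f)
  let g := f.fromNormalization
  have hg := isPullback_geomFiber g y
  have hf := isPullback_geomFiber f y
  let π : MoreMor.geomFiber f y ⟶ MoreMor.geomFiber g y :=
    hg.lift ((pullback.fst _ _ ≫ f.fiberι y) ≫ f.toNormalization) (pullback.snd _ _) (by
      rw [Category.assoc, f.toNormalization_fromNormalization]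
      exact hf.w)
  have hsq : IsPullback (pullback.fst _ _ ≫ f.fiberι y) π f.toNormalization
      (pullback.fst _ _ ≫ g.fiberι y) := by
    have h1 : π ≫ (pullback.fst _ _ ≫ g.fiberι y) = _ := hg.lift_fst _ _ _
    have h2 : π ≫ pullback.snd _ _ = _ := hg.lift_snd _ _ _
    refine IsPullback.of_bot ?_ h1.symm hg
    exact (congrArg₂ (fun a b ↦ IsPullback (pullback.fst _ _ ≫ f.fiberι y) a b (sepBase y)) h2
      f.toNormalization_fromNormalization).mpr hf
  have : GeometricallyConnected π :=
    MorphismProperty.of_isPullback (P := @GeometricallyConnected) hsq inferInstance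
  have := discreteTopology_geomFiber g y
  rw [MoreMor.nGeomConnComp, nGeomConnComp_eq_card]
  exact card_connectedComponents π π.continuous π.isConnected_preimage_singleton

omit [IsProper f] [IsLocallyNoetherian Y] in
/-- Universal openness descends to the second factor along a surjection. -/
lemma univOpenAt_of_comp {Z : Scheme.{u}} (h : X ⟶ Z) [Surjective h] (g : Z ⟶ Y) (y : Y)
    (hopen : ∀ x, (h ≫ g) x = y → EGA43.IsUnivOpenAt (h ≫ g) x) (p : Z) (hp : g p = y) :
    EGA43.IsUnivOpenAt g p := by
  intro Y' a p' hp' U hU
  let m : pullback (h ≫ g) a ⟶ pullback g a :=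
    pullback.map (h ≫ g) a g a h (𝟙 _) (𝟙 _) (Category.comp_id _) (by simp)
  have hm : IsPullback (pullback.fst (h ≫ g) a) m h (pullback.fst g a) :=
    IsPullback.of_bot (by simpa [m, pullback.lift_snd] using IsPullback.of_hasPullback (h ≫ g) a)
      (by simp [m, pullback.lift_fst]) (IsPullback.of_hasPullback g a)
  have : Surjective m := MorphismProperty.of_isPullback (P := @Surjective) hm inferInstance
  obtain ⟨x', hx'⟩ := m.surjective p'
  have hfst : h (pullback.fst (h ≫ g) a x') = p := by
    rw [← Scheme.Hom.comp_apply, hm.w, Scheme.Hom.comp_apply, hx']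
    exact hp'
  have h1 := hopen _ (by rw [Scheme.Hom.comp_apply, hfst, hp]) Y' a x' rfl (m ⁻¹' U)
    (m.continuous.continuousAt.preimage_mem_nhds (by rw [hx']; exact hU))
  have hs : ∀ w, pullback.snd g a (m w) = pullback.snd (h ≫ g) a w := fun w ↦ by
    rw [← Scheme.Hom.comp_apply]
    have e : m ≫ pullback.snd g a = pullback.snd (h ≫ g) a := by simp [m, pullback.lift_snd]
    rw [e]
  change pullback.snd (h ≫ g) a '' _ ∈ 𝓝 (pullback.snd (h ≫ g) a x') at h1
  rw [← hs, hx'] at h1
  refine Filter.mem_of_superset h1 ?_
  rintro _ ⟨w, hw, rfl⟩
  exact ⟨m w, hw, hs w⟩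

/-- Lower semicontinuity of the number of geometric connected components of a proper morphism. -/
theorem eventually_le_of_isProper (y : Y) (h : ∀ x, f x = y → EGA43.IsUnivOpenAt f x) :
    ∀ᶠ z in 𝓝 y, MoreMor.nGeomConnComp f y ≤ MoreMor.nGeomConnComp f z := by
  have := SteinLead.isFinite_fromNormalization f
  have := FormalFun.surjective_toNormalization f
  simp only [nGeomConnComp_fromNormalization f]
  refine eventually_le f.fromNormalization y fun p hp ↦
    univOpenAt_of_comp f.toNormalization f.fromNormalization y ?_ p hp
  rw [f.toNormalization_fromNormalization]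
  exact h

end Groth.Agent.GeomCount
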